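import Cfsg.Agent.Lib.Enum.HeASuborbits
import Cfsg.Agent.Lib.HeInvCent.Data

/-!
# Finite checks on the 2058 points for the centralizer of the involution `e` of He
-/

set_option autoImplicit false
set_option maxRecDepth 20000

namespace Cfsg.Agent.HeInvCent

open Cfsg.Agent.Enum

/-- Image of a point under the involution `e`. -/
def zi (y : ℕ) : ℕ := HeA.table.img 4 y

/-- Suborbit label seen from a point moved to `0` by the word. -/
def lab (w : List ℕ) (y : ℕ) : ℕ := field 8 HeA.suborbits.label (HeA.table.imgWord w y)

/-- The point `y` has the signature of `b` relative to fixed points. -/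
def sigEq (P : List (ℕ × List ℕ)) (b y : ℕ) : Bool :=
  (Nat.beq (zi y) y == Nat.beq (zi b) b) &&
    P.all fun pw => Nat.beq (lab pw.2 y) (lab pw.2 b) && Nat.beq (lab pw.2 (zi y)) (lab pw.2 (zi b))

/-- The check of one step of the chain. -/
def chkStep (prev : List ℕ) (s : ℕ × ℕ × List (ℕ × List ℕ)) : Bool :=
  Nat.blt s.1 2058 &&
  s.2.2.all (fun pw => (prev.any fun c => Nat.beq pw.1 c || Nat.beq pw.1 (zi c)) &&
    Nat.blt pw.1 2058 && Nat.beq (HeA.table.imgWord pw.2 pw.1) 0) &&
  Nat.beq ((List.range 2058).countP (sigEq s.2.2 s.1)) s.2.1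

/-- Points fixed after `i` steps. -/
def prevPts (i : ℕ) : List ℕ := ((steps.take i).map Prod.fst).reverse

theorem step0 : chkStep (prevPts 0) (steps.getD 0 (0, 0, [])) = true := by decide +kernel
theorem step1 : chkStep (prevPts 1) (steps.getD 1 (0, 0, [])) = true := by decide +kernel
theorem step2 : chkStep (prevPts 2) (steps.getD 2 (0, 0, [])) = true := by decide +kernel
theorem step3 : chkStep (prevPts 3) (steps.getD 3 (0, 0, [])) = true := by decide +kernel
theorem step4 : chkStep (prevPts 4) (steps.getD 4 (0, 0, [])) = true := by decide +kernel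
theorem step5 : chkStep (prevPts 5) (steps.getD 5 (0, 0, [])) = true := by decide +kernel
theorem step6 : chkStep (prevPts 6) (steps.getD 6 (0, 0, [])) = true := by decide +kernel
theorem step7 : chkStep (prevPts 7) (steps.getD 7 (0, 0, [])) = true := by decide +kernel
theorem step8 : chkStep (prevPts 8) (steps.getD 8 (0, 0, [])) = true := by decide +kernel

end Cfsg.Agent.HeInvCent
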