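import Cfsg.Agent.Lib.Enum.HeMain
import Cfsg.Agent.Lib.HeInvCent.Check

/-!
# The centralizer of the involution `e` of He has order at most 21504
-/

set_option autoImplicit false
set_option maxRecDepth 10000

namespace Cfsg.Agent.HeInvCent

open Cfsg.Agent.Enum

/-- The presented group. -/
abbrev HG : Type := presHe.Grp

/-- The faithful action on the 2058 points. -/
noncomputable def act : HG →* Equiv.Perm (Fin HeA.table.N) := Classical.choose HeM.rep

theorem act_g (x : ℕ) : act (presHe.g x) = HeA.table.permOf HeA.certified.invol x :=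
  (Classical.choose_spec HeM.rep).1 x

theorem card_HG : Nat.card HG = 4030387200 := (Classical.choose_spec HeM.rep).2.1

theorem act_injective : Function.Injective act := (Classical.choose_spec HeM.rep).2.2

instance : Finite HG := HeM.finite_grp

theorem gg (x : ℕ) : presHe.g x * presHe.g x = 1 := presHe.g_mul_self x

/-- The product of a word. -/
noncomputable def wv (w : List ℕ) : HG := (w.map presHe.g).prod

theorem wv_append (v w : List ℕ) : wv (v ++ w) = wv v * wv w := by simp [wv]

theorem wv_nil : wv [] = 1 := by simp [wv]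

theorem act_inv_wv (w : List ℕ) (i : Fin HeA.table.N) :
    (act (wv w)⁻¹ i : ℕ) = HeA.table.imgWord w i := by
  rw [wv, ← Data.reverse_prod presHe.g gg, map_list_prod, List.map_reverse, List.map_map,
    show w.map (act ∘ presHe.g) = w.map (HeA.table.permOf HeA.certified.invol) from
      List.map_congr_left fun x _ => act_g x]
  have h := Table.act_permOf HeA.table HeA.certified.invol w i
  rw [Data.act_eq] at h
  exact congrArg Fin.val h

/-- The pointwise fixer of four base points is trivial. -/
theorem fixer_base : Level.fixer act [8, 80, 1, 0] = ⊥ := by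
  have hall := List.all_eq_true.1 HeA.levels_ok
  have m0 := Level.mul_card_le gg HeA.certified.invol act act_g HeA.level0 (hall _ (by simp [HeA.levels]))
  have m1 := Level.mul_card_le gg HeA.certified.invol act act_g HeA.level1 (hall _ (by simp [HeA.levels]))
  have m2 := Level.mul_card_le gg HeA.certified.invol act act_g HeA.level2 (hall _ (by simp [HeA.levels]))
  have m3 := Level.mul_card_le gg HeA.certified.invol act act_g HeA.level3 (hall _ (by simp [HeA.levels]))
  simp only [HeA.level0, HeA.level1, HeA.level2, HeA.level3] at m0 m1 m2 m3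
  have htop : Nat.card (Level.fixer act ([] : List ℕ)) ≤ 4030387200 := by
    rw [← card_HG]; exact Subgroup.card_le_card_group _
  apply Subgroup.eq_bot_of_card_le
  have c23 := (Nat.mul_le_mul_left 360 m3).trans m2
  have c13 := (Nat.mul_le_mul_left 1360 c23).trans m1
  have c03 := (Nat.mul_le_mul_left 2058 c13).trans m0
  have := c03.trans htop
  simp only [← mul_assoc] at this
  norm_num at this
  omega

/-- The involution. -/
noncomputable def zel : HG := presHe.g 4

theorem act_z (i : Fin HeA.table.N) : (act zel i : ℕ) = zi i := by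
  rw [zel, act_g]; rfl

theorem mem_sub_of_fix {k : HG} (h : ∀ hp : 0 < HeA.table.N, act k ⟨0, hp⟩ = ⟨0, hp⟩) : k ∈ HeA.sub := by
  obtain ⟨φ, f, hφ, hf, hfi⟩ := Table.orbit_point HeA.certified
  have e : φ = act := by
    refine MonoidHom.eq_of_eqOn_dense presHe.g_gen ?_
    rintro _ ⟨x, rfl⟩
    rw [hφ, act_g]
  subst e
  have h0 := Table.coset_zero HeA.certified
  have hinj : Function.Injective f := fun p q hpq => by
    obtain ⟨i, rfl⟩ := (Table.coset_bijective HeA.certified).2 p
    obtain ⟨j, rfl⟩ := (Table.coset_bijective HeA.certified).2 q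
    rw [hfi, hfi] at hpq; rw [hpq]
  have h1 : k • (QuotientGroup.mk 1 : HG ⧸ HeA.sub) = QuotientGroup.mk 1 := by
    apply hinj
    rw [hf, ← h0, hfi]
    exact h _
  change QuotientGroup.mk (k * 1) = _ at h1
  rw [QuotientGroup.eq, mul_one, mul_one] at h1
  exact inv_mem_iff.1 h1

/-- The label of a point. -/
def lbl (i : ℕ) : ℕ := field 8 HeA.suborbits.label i

theorem lbl_invariant {k : HG} (hk : k ∈ HeA.sub) (i : Fin HeA.table.N) :
    lbl (act k i : ℕ) = lbl i := by
  rw [HeA.sub_words] at hk
  suffices ∀ i : Fin HeA.table.N, lbl (act k i : ℕ) = lbl i from this i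
  induction hk using Subgroup.closure_induction with
  | mem a ha =>
    obtain ⟨w, hw, rfl⟩ := ha
    intro i
    have h := allRange_spec 64 0 HeA.table.N HeA.suborbits_ok (act (wv w) i : ℕ) (Nat.zero_le _)
      (by simp)
    simp only [Bool.and_eq_true, List.all_eq_true] at h
    have h1 := Table.beq_eq (h.1 w hw)
    rw [← act_inv_wv w (act (wv w) i), ← Equiv.Perm.mul_apply, ← map_mul, inv_mul_cancel, map_one,
      Equiv.Perm.one_apply] at h1
    exact h1.symm
  | one => intro i; rw [map_one]; rfl
  | mul a b _ _ ha hb => intro i; rw [map_mul, Equiv.Perm.mul_apply, ha, hb]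
  | inv a _ ha =>
    intro i
    have := ha (act a⁻¹ i)
    rw [← Equiv.Perm.mul_apply, ← map_mul, mul_inv_cancel, map_one] at this
    exact this.symm

/-- The elements of the centralizer fixing the listed points. -/
noncomputable def cfix (ps : List ℕ) : Subgroup HG :=
  Subgroup.centralizer ({zel} : Set HG) ⊓ Level.fixer act ps

theorem act_comm {k : HG} (hk : k ∈ Subgroup.centralizer ({zel} : Set HG)) (i : Fin HeA.table.N) :
    act k (act zel i) = act zel (act k i) := by
  rw [← Equiv.Perm.mul_apply, ← map_mul, ← Equiv.Perm.mul_apply, ← map_mul,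
    Subgroup.mem_centralizer_singleton_iff.1 hk]

theorem sig_mem {prev : List ℕ} {s : ℕ × ℕ × List (ℕ × List ℕ)} (hs : chkStep prev s = true)
    (hprev : ∀ c ∈ prev, c < HeA.table.N) {k : HG} (hk : k ∈ cfix prev) (hb : s.1 < HeA.table.N) :
    sigEq s.2.2 s.1 (act k ⟨s.1, hb⟩ : ℕ) = true := by
  simp only [chkStep, Bool.and_eq_true, List.all_eq_true, List.any_eq_true, Bool.or_eq_true] at hs
  set b : Fin HeA.table.N := ⟨s.1, hb⟩ with hbdef
  have hz : (act k (act zel b) : ℕ) = zi (act k b : ℕ) := by rw [act_comm hk.1, act_z]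
  have hzb : (act zel b : ℕ) = zi s.1 := act_z b
  simp only [sigEq, Bool.and_eq_true, List.all_eq_true, beq_iff_eq]
  refine ⟨?_, fun pw hpw => ?_⟩
  · rw [Bool.eq_iff_iff, Nat.beq_eq, Nat.beq_eq]
    constructor
    · intro h
      have h1 : act k (act zel b) = act k b := Fin.ext (by rw [hz]; exact h)
      rw [← hzb]
      exact congrArg Fin.val ((act k).injective h1)
    · intro h
      have h1 : act zel b = b := Fin.ext (by rw [hzb]; exact h)
      rw [← hz, h1]
  · obtain ⟨⟨hmem, hlt⟩, himg⟩ := hs.1.2 pw hpw
    obtain ⟨c, hc, hcor⟩ := hmem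
    have hp : pw.1 < HeA.table.N := Table.blt_lt hlt
    have hfix : act k ⟨pw.1, hp⟩ = ⟨pw.1, hp⟩ := by
      rcases hcor with h | h
      · exact hk.2 pw.1 (by rw [Table.beq_eq h]; exact hc) hp
      · by_cases hcN : c < HeA.table.N
        · have e : (⟨pw.1, hp⟩ : Fin HeA.table.N) = act zel ⟨c, hcN⟩ :=
            Fin.ext (by rw [act_z]; exact Table.beq_eq h)
          rw [e, act_comm hk.1, hk.2 c hc hcN]
        · exfalso
          refine hcN ?_
          have e : zi c = pw.1 := (Table.beq_eq h).symm
          have hc0 : ∀ c ∈ prev, c < HeA.table.N := hprev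
          exact hc0 c hc
    have h0 : ∀ hp0 : 0 < HeA.table.N,
        act ((wv pw.2)⁻¹ * k * wv pw.2) ⟨0, hp0⟩ = ⟨0, hp0⟩ := by
      intro hp0
      have e : act (wv pw.2)⁻¹ ⟨pw.1, hp⟩ = ⟨0, hp0⟩ :=
        Fin.ext (by rw [act_inv_wv]; exact Table.beq_eq himg)
      conv_lhs => rw [← e]
      rw [map_mul, map_mul, map_inv, Equiv.Perm.mul_apply, Equiv.Perm.mul_apply,
        Equiv.Perm.inv_def, Equiv.apply_symm_apply, hfix, ← Equiv.Perm.inv_def, ← map_inv, e]
    have hinv := fun i => lbl_invariant (mem_sub_of_fix h0) i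
    have key : ∀ y : Fin HeA.table.N, lab pw.2 (act k y : ℕ) = lab pw.2 (y : ℕ) := by
      intro y
      show lbl _ = lbl _
      rw [← act_inv_wv, ← act_inv_wv, ← hinv (act (wv pw.2)⁻¹ y)]
      congr 2
      simp only [map_mul, map_inv, Equiv.Perm.mul_apply, Equiv.Perm.inv_def, Equiv.apply_symm_apply]
    refine ⟨?_, ?_⟩
    · rw [Nat.beq_eq]; exact key b
    · rw [Nat.beq_eq, ← hz, ← hzb]; exact key _

theorem step_le {prev : List ℕ} {s : ℕ × ℕ × List (ℕ × List ℕ)} (hs : chkStep prev s = true)
    (hprev : ∀ c ∈ prev, c < HeA.table.N) :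
    Nat.card (cfix prev) ≤ s.2.1 * Nat.card (cfix (s.1 :: prev)) := by
  classical
  have hs' := hs
  simp only [chkStep, Bool.and_eq_true] at hs'
  have hb : s.1 < HeA.table.N := Table.blt_lt hs'.1.1
  let A := {y : Fin HeA.table.N // sigEq s.2.2 s.1 (y : ℕ) = true}
  let f : cfix prev → A := fun k => ⟨act (k : HG) ⟨s.1, hb⟩, sig_mem hs hprev k.2 hb⟩
  haveI : Nonempty (cfix prev) := ⟨1⟩
  let r : cfix prev → cfix prev := fun k => Function.invFun f (f k)
  have hr : ∀ k, f (r k) = f k := fun k => Function.invFun_eq ⟨k, rfl⟩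
  let F : cfix prev → A × cfix (s.1 :: prev) := fun k =>
    (f k, ⟨((r k : HG))⁻¹ * k,
      (Subgroup.centralizer ({zel} : Set HG)).mul_mem ((Subgroup.centralizer ({zel} : Set HG)).inv_mem (r k).2.1) k.2.1, by
      intro p hp hpN
      rcases List.mem_cons.1 hp with rfl | hp
      · have e := congrArg Subtype.val (hr k)
        change act (r k : HG) ⟨s.1, hb⟩ = act (k : HG) ⟨s.1, hb⟩ at e
        rw [map_mul, Equiv.Perm.mul_apply, ← e, ← Equiv.Perm.mul_apply, ← map_mul, inv_mul_cancel,
          map_one]
        rfl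
      · exact ((Level.fixer act prev).mul_mem ((Level.fixer act prev).inv_mem (r k).2.2) k.2.2) p hp hpN⟩)
  have hF : Function.Injective F := by
    intro k l h
    have h1 : f k = f l := congrArg Prod.fst h
    have h2 := congrArg (fun x => ((x.2 : cfix (s.1 :: prev)) : HG)) h
    have h3 : r k = r l := by simp only [r, h1]
    simp only [F, h3] at h2
    exact Subtype.ext (mul_left_cancel h2)
  refine (Nat.card_le_card_of_injective F hF).trans ?_
  rw [Nat.card_prod]
  refine Nat.mul_le_mul_right _ ?_
  have hcount : (List.range 2058).countP (sigEq s.2.2 s.1) = s.2.1 := Table.beq_eq hs'.2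
  rw [← hcount, List.countP_eq_length_filter]
  let g : A → {y // y ∈ ((List.range 2058).filter (sigEq s.2.2 s.1)).toFinset} := fun y =>
    ⟨(y.1 : ℕ), by
      rw [List.mem_toFinset, List.mem_filter, List.mem_range]
      exact ⟨y.1.2, y.2⟩⟩
  have hg : Function.Injective g := fun a b h =>
    Subtype.ext (Fin.ext (congrArg Subtype.val h :))
  refine (Nat.card_le_card_of_injective g hg).trans ?_
  rw [Nat.card_eq_fintype_card, Fintype.card_coe]
  exact List.toFinset_card_le _

theorem card_centralizer_le : Nat.card (Subgroup.centralizer ({zel} : Set HG)) ≤ 21504 := by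
  have h0 := step_le step0 (by decide +kernel)
  have h1 := step_le step1 (by decide +kernel)
  have h2 := step_le step2 (by decide +kernel)
  have h3 := step_le step3 (by decide +kernel)
  have h4 := step_le step4 (by decide +kernel)
  have h5 := step_le step5 (by decide +kernel)
  have h6 := step_le step6 (by decide +kernel)
  have h7 := step_le step7 (by decide +kernel)
  have h8 := step_le step8 (by decide +kernel)
  simp only [prevPts, steps, List.getD, List.getElem?_cons_zero, List.getElem?_cons_succ,
    Option.getD_some, List.take_succ_cons, List.take_zero, List.map_cons, List.map_nil,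
    List.reverse_cons, List.reverse_nil, List.nil_append, List.cons_append] at h0 h1 h2 h3 h4 h5 h6 h7 h8
  have hlast : cfix [8, 80, 43, 199, 52, 1683, 746, 1, 0] = ⊥ := by
    rw [eq_bot_iff, ← fixer_base]
    intro k hk p hp h
    exact hk.2 p (by simp only [List.mem_cons, List.not_mem_nil, or_false] at hp ⊢; tauto) h
  have htop : cfix [] = Subgroup.centralizer ({zel} : Set HG) :=
    le_antisymm inf_le_left fun k hk => ⟨hk, fun p hp => absurd hp List.not_mem_nil⟩
  rw [hlast, Subgroup.card_bot] at h8
  rw [← htop]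
  omega

end Cfsg.Agent.HeInvCent
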