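import Cfsg.Agent.Lib.Enum.HeATable
import Cfsg.Agent.Lib.HeInvCent.Data

/-!
# Finite checks on the pairs (matrix, word)
-/

set_option autoImplicit false
set_option maxRecDepth 20000

namespace Cfsg.Agent.HeInvCent

open Cfsg.Agent.Enum

/-- Five by five matrices over the field with two elements. -/
abbrev M5 : Type := Matrix (Fin 5) (Fin 5) (ZMod 2)

/-- The matrix with a given code. -/
def mx (n : ℕ) : M5 := fun i j => bif Nat.testBit n (5 * i.val + j.val) then 1 else 0

/-- The images of the base points under a word. -/
def tup (w : List ℕ) : List ℕ := [0, 1, 80, 8].map (HeA.table.imgWord w)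

/-- Entry of a list. -/
def ent (l : List (ℕ × List ℕ)) (i : ℕ) : ℕ × List ℕ := l.getD i (0, [])

/-- Number of a matrix. -/
def mkey (M : M5) : ℕ :=
  ((List.finRange 5).map fun i => ((List.finRange 5).map fun j =>
    bif M i j == 1 then 2 ^ (5 * i.val + j.val) else 0).sum).sum

/-- Number of a list of points. -/
def tkey (l : List ℕ) : ℕ := l.foldl (fun a x => 4096 * a + x) 0

/-- Product of an entry with a generator equals the listed entry. -/
def mulOK (a b c : ℕ × List ℕ) : Bool :=
  decide (mx a.1 * mx b.1 = mx c.1) && decide (tup (a.2 ++ b.2) = tup c.2)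

/-- Closure and provenance check of a list. -/
def chkList (gens : List (ℕ × List ℕ)) (l : List (ℕ × List ℕ)) (next : List (List ℕ))
    (par : List (ℕ × ℕ)) : Bool :=
  (List.range l.length).all fun i =>
    ((List.range gens.length).all fun k =>
      Nat.blt ((next.getD i []).getD k 0) l.length &&
        mulOK (ent l i) (ent gens k) (ent l ((next.getD i []).getD k 0))) &&
    (Nat.beq i 0 || (Nat.blt (par.getD i (0, 0)).1 i && Nat.blt (par.getD i (0, 0)).2 gens.length &&
      Nat.beq ((next.getD (par.getD i (0, 0)).1 []).getD (par.getD i (0, 0)).2 0) i))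

theorem qList_ok : chkList qGens qList qNext qPar = true := by decide +kernel
theorem lList_ok : chkList lGens lList lNext lPar = true := by decide +kernel

/-- The code of the identity matrix. -/
def mxOne : ℕ := 17043521

theorem zero_ok : ent qList 0 = (mxOne, []) ∧ ent lList 0 = (mxOne, []) ∧ mx mxOne = 1 := by decide +kernel

/-- The generators of the complement normalise. -/
def chkConj : Bool :=
  (List.range 2).all fun k => (List.range 6).all fun i =>
    let q := conjImg.getD (6 * k + i) 0
    Nat.blt q qList.length &&
      decide (mx (ent lGens k).1 * mx (ent qGens i).1 = mx (ent qList q).1 * mx (ent lGens k).1) &&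
      decide (tup ((ent lGens k).2 ++ (ent qGens i).2) = tup ((ent qList q).2 ++ (ent lGens k).2))

theorem conj_ok : chkConj = true := by decide +kernel

theorem det_ok : ∀ g ∈ qGens ++ lGens, (mx g.1).det = 1 := by decide +kernel

theorem central_ok : ∀ g ∈ qGens ++ lGens,
    tup (g.2 ++ [4]) = tup ([4] ++ g.2) ∧
      mx g.1 * Matrix.transvection (0 : Fin 5) 1 1 = Matrix.transvection (0 : Fin 5) 1 1 * mx g.1 := by
  decide +kernel

theorem mat_keys : (qList.map (fun e => mkey (mx e.1)) ++ (lList.map fun e => mkey (mx e.1)).tail).Nodup := by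
  decide +kernel

theorem tup_keys : (qList.map (fun e => tkey (tup e.2)) ++ (lList.map fun e => tkey (tup e.2)).tail).Nodup := by
  decide +kernel

end Cfsg.Agent.HeInvCent
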