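import Cfsg.Agent.Lib.HeInvCent.Bound
import Cfsg.Agent.Lib.HeInvCent.GroupCheck

/-!
# The centralizer of `e` in He is the centralizer of a transvection in `SL(5, 2)`
-/

set_option autoImplicit false
set_option maxRecDepth 10000

namespace Cfsg.Agent.HeInvCent

open Cfsg.Agent.Enum

/-- The special linear group. -/
abbrev SL5 : Type := Matrix.SpecialLinearGroup (Fin 5) (ZMod 2)

attribute [local irreducible] mx

/-- The element with a given code. -/
noncomputable def sl (n : ℕ) : SL5 :=
  ⟨if (mx n).det = 1 then mx n else 1, by split_ifs with h <;> simp [h]⟩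

theorem coe_sl {n : ℕ} (h : (mx n).det = 1) : (sl n : M5) = mx n := by
  unfold sl
  simp only [h, if_true]

attribute [local irreducible] qGens lGens qList lList qNext lNext qPar lPar conjImg

open scoped Pointwise

theorem wv_eq_of_tup {v w : List ℕ} (h : tup v = tup w) : wv v = wv w := by
  have hm : wv w * (wv v)⁻¹ ∈ Level.fixer act [8, 80, 1, 0] := by
    intro p hp hpN
    have he : HeA.table.imgWord v p = HeA.table.imgWord w p := by
      simp only [tup, List.map_cons, List.map_nil, List.cons.injEq] at h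
      simp only [List.mem_cons, List.not_mem_nil, or_false] at hp
      obtain ⟨h0, h1, h2, h3⟩ := h
      rcases hp with rfl | rfl | rfl | rfl
      · exact h3.1
      · exact h2
      · exact h1
      · exact h0
    have e : act (wv v)⁻¹ ⟨p, hpN⟩ = act (wv w)⁻¹ ⟨p, hpN⟩ :=
      Fin.ext (by rw [act_inv_wv, act_inv_wv]; exact he)
    rw [map_mul, Equiv.Perm.mul_apply, e, ← Equiv.Perm.mul_apply, ← map_mul, mul_inv_cancel, map_one]
    rfl
  rw [fixer_base, Subgroup.mem_bot, mul_inv_eq_one] at hm
  exact hm.symm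

theorem tup_key_eq {v w : List ℕ} (h : wv v = wv w) : tkey (tup v) = tkey (tup w) := by
  have : tup v = tup w := by
    refine List.map_congr_left fun p hp => ?_
    have hpN : p < HeA.table.N := by
      simp only [List.mem_cons, List.not_mem_nil, or_false] at hp
      rcases hp with rfl | rfl | rfl | rfl <;> decide +kernel
    rw [← act_inv_wv v ⟨p, hpN⟩, ← act_inv_wv w ⟨p, hpN⟩, h]
  rw [this]

/-- Pairs of an element of He and a matrix. -/
abbrev PG : Type := HG × SL5

/-- The generating pair of an entry. -/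
noncomputable def pr (e : ℕ × List ℕ) : PG := (wv e.2, sl e.1)

/-- A pair matches an entry. -/
def Fits (x : PG) (e : ℕ × List ℕ) : Prop := x.1 = wv e.2 ∧ (x.2 : M5) = mx e.1

theorem fits_pr {e : ℕ × List ℕ} (he : e ∈ qGens ++ lGens) : Fits (pr e) e := by
  have h : (mx e.1).det = 1 := det_ok e he
  unfold Fits pr
  exact ⟨rfl, coe_sl h⟩

theorem Fits.unique {x y : PG} {e : ℕ × List ℕ} (hx : Fits x e) (hy : Fits y e) : x = y :=
  Prod.ext (hx.1.trans hy.1.symm) (Subtype.ext (hx.2.trans hy.2.symm))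

theorem fits_mul {x y : PG} {a b c : ℕ × List ℕ} (hx : Fits x a) (hy : Fits y b)
    (h : mulOK a b c = true) : Fits (x * y) c := by
  simp only [mulOK, Bool.and_eq_true, decide_eq_true_eq] at h
  refine ⟨?_, ?_⟩
  · show x.1 * y.1 = _
    rw [hx.1, hy.1, ← wv_append]
    exact wv_eq_of_tup h.2
  · show ((x.2 * y.2 : SL5) : M5) = _
    rw [Matrix.SpecialLinearGroup.coe_mul, hx.2, hy.2, h.1]

/-- The generated subgroup of pairs. -/
noncomputable def gsub (gens : List (ℕ × List ℕ)) : Subgroup PG :=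
  Subgroup.closure {x | ∃ e ∈ gens, x = pr e}

theorem list_spec {gens l : List (ℕ × List ℕ)} {next : List (List ℕ)} {par : List (ℕ × ℕ)}
    (hg : ∀ e ∈ gens, e ∈ qGens ++ lGens) (h0 : ent l 0 = (mxOne, [])) (hne : 0 < l.length)
    (h : chkList gens l next par = true) :
    (∀ x ∈ gsub gens, ∃ i < l.length, Fits x (ent l i)) ∧
      ∀ i < l.length, ∃ x ∈ gsub gens, Fits x (ent l i) := by
  simp only [chkList, List.all_eq_true, List.mem_range, Bool.and_eq_true, Bool.or_eq_true] at h
  have hge : ∀ k < gens.length, ent gens k ∈ gens := fun k hk => by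
    rw [ent, List.getD_eq_getElem _ _ hk]; exact List.getElem_mem _
  have h1 : Fits (1 : PG) (ent l 0) := by
    rw [h0]
    exact ⟨wv_nil.symm, zero_ok.2.2.symm⟩
  constructor
  · intro x hx
    rw [gsub, ← Subgroup.mem_toSubmonoid, Subgroup.closure_toSubmonoid_of_finite] at hx
    induction hx using Submonoid.closure_induction_right with
    | one => exact ⟨0, hne, h1⟩
    | mul_right x _ y hy ih =>
      obtain ⟨i, hi, hxi⟩ := ih
      obtain ⟨e, he, rfl⟩ := hy
      obtain ⟨k, hk, rfl⟩ := List.getElem_of_mem he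
      have hk' : ent gens k = gens[k] := by rw [ent, List.getD_eq_getElem _ _ hk]
      exact ⟨_, Table.blt_lt ((h i hi).1 k hk).1,
        fits_mul hxi (fits_pr (hg _ he)) (hk' ▸ ((h i hi).1 k hk).2)⟩
  · intro i
    induction i using Nat.strong_induction_on with
    | _ i ih =>
      intro hi
      rcases (h i hi).2 with h' | ⟨⟨hlt, hk⟩, hn⟩
      · exact ⟨1, one_mem _, by rw [Table.beq_eq h']; exact h1⟩
      · have hlt := Table.blt_lt hlt
        obtain ⟨x, hx, hxf⟩ := ih _ hlt (hlt.trans hi)
        have hk := Table.blt_lt hk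
        refine ⟨x * pr (ent gens _), mul_mem hx (Subgroup.subset_closure ⟨_, hge _ hk, rfl⟩), ?_⟩
        have := ((h _ (hlt.trans hi)).1 _ hk).2
        rw [Table.beq_eq hn] at this
        exact fits_mul hxf (fits_pr (hg _ (hge _ hk))) this

/-- The group of order 128. -/
noncomputable def Qs : Subgroup PG := gsub qGens

/-- The complement of order 168. -/
noncomputable def Ls : Subgroup PG := gsub lGens

theorem q_spec : (∀ x ∈ Qs, ∃ i < qList.length, Fits x (ent qList i)) ∧
    ∀ i < qList.length, ∃ x ∈ Qs, Fits x (ent qList i) :=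
  list_spec (fun _ h => List.mem_append_left _ h) zero_ok.1 (by decide +kernel) qList_ok

theorem l_spec : (∀ x ∈ Ls, ∃ i < lList.length, Fits x (ent lList i)) ∧
    ∀ i < lList.length, ∃ x ∈ Ls, Fits x (ent lList i) :=
  list_spec (fun _ h => List.mem_append_right _ h) zero_ok.2.1 (by decide +kernel) lList_ok

theorem card_le_of_list {l : List (ℕ × List ℕ)} {K : Subgroup PG}
    (h : ∀ x ∈ K, ∃ i < l.length, Fits x (ent l i)) : Nat.card K ≤ l.length := by
  choose i hi hf using h
  rw [← Nat.card_fin l.length]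
  refine Nat.card_le_card_of_injective (fun x : K => ⟨i x x.2, hi x x.2⟩) fun a b hab => ?_
  have e : i a a.2 = i b b.2 := congrArg Fin.val hab
  exact Subtype.ext ((hf a a.2).unique (e ▸ hf b b.2))

theorem ls_normalizes : Ls ≤ Subgroup.normalizer (Qs : Set PG) := by
  rw [Ls, gsub, Subgroup.closure_le]
  rintro _ ⟨e, he, rfl⟩
  obtain ⟨k, hk, rfl⟩ := List.getElem_of_mem he
  set a := pr lGens[k] with ha
  have hmap : Qs.map (MulAut.conj a).toMonoidHom ≤ Qs := by
    rw [Qs, gsub, MonoidHom.map_closure, Subgroup.closure_le]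
    rintro _ ⟨_, ⟨y, hy, rfl⟩, rfl⟩
    obtain ⟨i, hi, rfl⟩ := List.getElem_of_mem hy
    have hh := conj_ok
    simp only [chkConj, List.all_eq_true, List.mem_range, Bool.and_eq_true, decide_eq_true_eq] at hh
    obtain ⟨⟨hq, hM⟩, hW⟩ := hh k (hk.trans_le (by decide +kernel)) i (hi.trans_le (by decide +kernel))
    obtain ⟨x, hx, hxf⟩ := q_spec.2 _ (Table.blt_lt hq)
    rw [ent, List.getD_eq_getElem _ _ hk, ent, List.getD_eq_getElem _ _ hi] at hM hW
    have h1 := fits_pr (List.mem_append_right qGens (List.getElem_mem hk))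
    have h2 := fits_pr (List.mem_append_left lGens (List.getElem_mem hi))
    have hcomm : a * pr qGens[i] = x * a := by
      apply Prod.ext
      · show (pr lGens[k]).1 * (pr qGens[i]).1 = x.1 * (pr lGens[k]).1
        rw [h1.1, h2.1, hxf.1, ← wv_append, ← wv_append]
        exact wv_eq_of_tup hW
      · apply Subtype.ext
        show (((pr lGens[k]).2 * (pr qGens[i]).2 : SL5) : M5) = ((x.2 * (pr lGens[k]).2 : SL5) : M5)
        rw [Matrix.SpecialLinearGroup.coe_mul, Matrix.SpecialLinearGroup.coe_mul, h1.2, h2.2, hxf.2]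
        exact hM
    show (MulAut.conj a) (pr qGens[i]) ∈ Qs
    rw [MulAut.conj_apply, hcomm, mul_inv_cancel_right]
    exact hx
  have heq : Qs.map (MulAut.conj a).toMonoidHom = Qs :=
    Subgroup.eq_of_le_of_card_ge hmap (by rw [Subgroup.card_map_of_injective (MulAut.conj a).injective])
  rw [SetLike.mem_coe, Subgroup.mem_normalizer_iff]
  intro h
  constructor
  · intro hh
    exact hmap ⟨h, hh, rfl⟩
  · intro hh
    obtain ⟨y, hy, hye⟩ := (heq.ge hh : _ ∈ Qs.map (MulAut.conj a).toMonoidHom)
    have : y = h := (MulAut.conj a).injective hye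
    exact this ▸ hy

/-- The graph of the isomorphism. -/
noncomputable def Dg : Subgroup PG := Qs ⊔ Ls

theorem card_Dg_le : Nat.card Dg ≤ 21504 := by
  have hs : (Dg : Set PG) = (Qs : Set PG) * (Ls : Set PG) :=
    Subgroup.coe_mul_of_right_le_normalizer_left Qs Ls ls_normalizes
  have h1 : Nat.card (Dg : Set PG) ≤ Nat.card (Qs : Set PG) * Nat.card (Ls : Set PG) := by
    rw [hs]; exact Set.natCard_mul_le
  refine h1.trans ((Nat.mul_le_mul (card_le_of_list q_spec.1) (card_le_of_list l_spec.1)).trans ?_)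
  decide +kernel

theorem card_map_ge {H : Type} [Group H] [Finite H] (f : PG →* H) (key : ℕ × List ℕ → ℕ)
    (hkey : ∀ x y e e', Fits x e → Fits y e' → f x = f y → key e = key e')
    (hnd : (qList.map key ++ (lList.map key).tail).Nodup) :
    21504 ≤ Nat.card (Dg.map f) := by
  have hndq : (qList.map key).Nodup := (List.nodup_append.1 hnd).1
  have hndl' : (lList.map key).tail.Nodup := (List.nodup_append.1 hnd).2.1
  have hdisj : ∀ a ∈ qList.map key, ∀ b ∈ (lList.map key).tail, a ≠ b := (List.nodup_append.1 hnd).2.2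
  have hqlen : qList.length = 128 := by decide +kernel
  have hllen : lList.length = 168 := by decide +kernel
  have h00 : key (ent qList 0) = key (ent lList 0) := by rw [zero_ok.1, zero_ok.2.1]
  have kq : ∀ i < qList.length, key (ent qList i) ∈ qList.map key := fun i hi => by
    rw [ent, List.getD_eq_getElem _ _ hi]; exact List.mem_map_of_mem (List.getElem_mem hi)
  have kqi : ∀ i < qList.length, ∀ j < qList.length,
      key (ent qList i) = key (ent qList j) → i = j := fun i hi j hj h => by
    rw [ent, ent, List.getD_eq_getElem _ _ hi, List.getD_eq_getElem _ _ hj] at h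
    exact (hndq.getElem_inj_iff (hi := by simpa using hi) (hj := by simpa using hj)).1
      (by simpa using h)
  have kl : ∀ i < lList.length, i ≠ 0 → key (ent lList i) ∈ (lList.map key).tail := fun i hi h0 => by
    obtain ⟨j, rfl⟩ := Nat.exists_eq_succ_of_ne_zero h0
    rw [ent, List.getD_eq_getElem _ _ hi]
    exact List.mem_iff_getElem.2 ⟨j, by simp; omega, by simp⟩
  have kli : ∀ i < lList.length, ∀ j < lList.length,
      key (ent lList i) = key (ent lList j) → i = j := by
    intro i hi j hj h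
    by_cases h0 : i = 0
    · by_contra hne
      exact hdisj _ (kq 0 (by omega)) _ (kl j hj (by omega)) (by rw [h00, ← h, h0])
    by_cases h1 : j = 0
    · exact absurd (by rw [h00, h, h1]) (hdisj _ (kq 0 (by omega)) _ (kl i hi h0))
    obtain ⟨a, rfl⟩ := Nat.exists_eq_succ_of_ne_zero h0
    obtain ⟨b, rfl⟩ := Nat.exists_eq_succ_of_ne_zero h1
    rw [ent, ent, List.getD_eq_getElem _ _ hi, List.getD_eq_getElem _ _ hj] at h
    have := (hndl'.getElem_inj_iff (i := a) (j := b) (hi := by simp; omega) (hj := by simp; omega)).1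
      (by simpa using h)
    omega
  choose xq hxq hxqf using q_spec.2
  choose xl hxl hxlf using l_spec.2
  have inter : ∀ a ∈ Qs.map f, a ∈ Ls.map f → a = 1 := by
    rintro _ ⟨x, hx, rfl⟩ ⟨y, hy, hyx⟩
    obtain ⟨i, hi, hxi⟩ := q_spec.1 x hx
    obtain ⟨j, hj, hyj⟩ := l_spec.1 y hy
    have hk := hkey x y _ _ hxi hyj hyx.symm
    by_cases h0 : j = 0
    · subst h0
      have : y = 1 := hyj.unique (by rw [zero_ok.2.1]; exact ⟨wv_nil.symm, zero_ok.2.2.symm⟩)
      rw [← hyx, this, map_one]
    · exact absurd hk (hdisj _ (kq i hi) _ (kl j hj h0))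
  let F : Fin qList.length × Fin lList.length → Dg.map f := fun ij =>
    ⟨f (xq ij.1 ij.1.2) * f (xl ij.2 ij.2.2),
      mul_mem ⟨_, (le_sup_left : Qs ≤ Dg) (hxq _ ij.1.2), rfl⟩
        ⟨_, (le_sup_right : Ls ≤ Dg) (hxl _ ij.2.2), rfl⟩⟩
  have hF : Function.Injective F := by
    rintro ⟨i, j⟩ ⟨i', j'⟩ h
    have h' : f (xq i i.2) * f (xl j j.2) = f (xq i' i'.2) * f (xl j' j'.2) := congrArg Subtype.val h
    have h'' : (f (xq i' i'.2))⁻¹ * f (xq i i.2) = f (xl j' j'.2) * (f (xl j j.2))⁻¹ := by
      rw [eq_mul_inv_iff_mul_eq, mul_assoc, h', inv_mul_cancel_left]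
    have h1 := inter _ (mul_mem (inv_mem ⟨_, hxq _ i'.2, rfl⟩) ⟨_, hxq _ i.2, rfl⟩)
      (h'' ▸ mul_mem ⟨_, hxl _ j'.2, rfl⟩ (inv_mem ⟨_, hxl _ j.2, rfl⟩))
    have hi := inv_mul_eq_one.1 h1
    have hj := mul_inv_eq_one.1 (h''.symm.trans h1)
    exact Prod.ext (Fin.ext (kqi _ i.2 _ i'.2 (hkey _ _ _ _ (hxqf _ i.2) (hxqf _ i'.2) hi.symm)))
      (Fin.ext (kli _ j.2 _ j'.2 (hkey _ _ _ _ (hxlf _ j.2) (hxlf _ j'.2) hj.symm)))
  have := Nat.card_le_card_of_injective F hF
  rwa [Nat.card_prod, Nat.card_fin, Nat.card_fin, hqlen, hllen] at this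

theorem card_fst : 21504 ≤ Nat.card (Dg.map (MonoidHom.fst HG SL5)) :=
  card_map_ge _ (fun e => tkey (tup e.2))
    (fun x y e e' hx hy h => tup_key_eq (by rw [← hx.1, ← hy.1]; exact h)) tup_keys

theorem card_snd : 21504 ≤ Nat.card (Dg.map (MonoidHom.snd HG SL5)) :=
  card_map_ge _ (fun e => mkey (mx e.1))
    (fun x y e e' hx hy h => by rw [← hx.2, ← hy.2]; exact congrArg (fun g : SL5 => mkey (g : M5)) h)
    mat_keys

theorem Dg_le (s : SL5) (hs : (s : M5) = Matrix.transvection 0 1 1) :
    Dg ≤ (Subgroup.centralizer ({zel} : Set HG)).prod (Subgroup.centralizer ({s} : Set SL5)) := by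
  refine sup_le ?_ ?_ <;>
  · first
      | rw [Qs, gsub, Subgroup.closure_le]
      | rw [Ls, gsub, Subgroup.closure_le]
    rintro _ ⟨e, he, rfl⟩
    have hm : e ∈ qGens ++ lGens := by
      first | exact List.mem_append_left _ he | exact List.mem_append_right _ he
    obtain ⟨hw, hM⟩ := central_ok e hm
    constructor
    · show (pr e).1 ∈ Subgroup.centralizer ({zel} : Set HG)
      rw [Subgroup.mem_centralizer_singleton_iff]
      have := wv_eq_of_tup hw
      rw [wv_append, wv_append] at this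
      simpa [pr, zel, wv] using this
    · show (pr e).2 ∈ Subgroup.centralizer ({s} : Set SL5)
      rw [Subgroup.mem_centralizer_singleton_iff]
      apply Subtype.ext
      show (((pr e).2 * s : SL5) : M5) = ((s * (pr e).2 : SL5) : M5)
      rw [Matrix.SpecialLinearGroup.coe_mul, Matrix.SpecialLinearGroup.coe_mul, (fits_pr hm).2, hs]
      exact hM

end Cfsg.Agent.HeInvCent
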