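import Mathlib

/-!
# The centralizer of a transvection in `SL(5, 2)` has order at most 21504
-/

set_option autoImplicit false
set_option maxRecDepth 10000

namespace Cfsg.Agent.HeInvCent

open Matrix

/-- Small matrices without a left null vector. -/
def GoodBlock (B : Fin 3 → Fin 3 → ZMod 2) : Prop :=
  ∀ v : Fin 3 → ZMod 2, (∀ j, ∑ i, v i * B i j = 0) → v = 0

instance : DecidablePred GoodBlock := fun B => by unfold GoodBlock; infer_instance

theorem card_goodBlock : Fintype.card {B : Fin 3 → Fin 3 → ZMod 2 // GoodBlock B} = 168 := by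
  decide +kernel

theorem card_transvection_centralizer_le (s : SpecialLinearGroup (Fin 5) (ZMod 2))
    (hs : (s : Matrix (Fin 5) (Fin 5) (ZMod 2)) = transvection 0 1 1) :
    Nat.card (Subgroup.centralizer ({s} : Set (SpecialLinearGroup (Fin 5) (ZMod 2)))) ≤ 21504 := by
  classical
  set X := Subgroup.centralizer ({s} : Set (SpecialLinearGroup (Fin 5) (ZMod 2)))
  have shape : ∀ g : X, (∀ i, i ≠ 0 → ((g : SpecialLinearGroup (Fin 5) (ZMod 2)) : Matrix (Fin 5) (Fin 5) (ZMod 2)) i 0 = 0) ∧
      (∀ j, j ≠ 1 → ((g : SpecialLinearGroup (Fin 5) (ZMod 2)) : Matrix (Fin 5) (Fin 5) (ZMod 2)) 1 j = 0) ∧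
      ((g : SpecialLinearGroup (Fin 5) (ZMod 2)) : Matrix (Fin 5) (Fin 5) (ZMod 2)) 0 0 = 1 ∧
      ((g : SpecialLinearGroup (Fin 5) (ZMod 2)) : Matrix (Fin 5) (Fin 5) (ZMod 2)) 1 1 = 1 := by
    intro g
    set M := ((g : SpecialLinearGroup (Fin 5) (ZMod 2)) : Matrix (Fin 5) (Fin 5) (ZMod 2)) with hM
    have h : M * (s : Matrix (Fin 5) (Fin 5) (ZMod 2)) = (s : Matrix (Fin 5) (Fin 5) (ZMod 2)) * M := by
      rw [hM]
      have hh : (g : SpecialLinearGroup (Fin 5) (ZMod 2)) * s = s * g := Subgroup.mem_centralizer_singleton_iff.1 g.2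
      have hv : ((((g : SpecialLinearGroup (Fin 5) (ZMod 2)) * s) : SpecialLinearGroup (Fin 5) (ZMod 2)) : Matrix (Fin 5) (Fin 5) (ZMod 2)) = ((s * (g : SpecialLinearGroup (Fin 5) (ZMod 2)) : SpecialLinearGroup (Fin 5) (ZMod 2)) : Matrix (Fin 5) (Fin 5) (ZMod 2)) := by rw [hh]
      simpa [SpecialLinearGroup.coe_mul] using hv
    rw [hs, transvection, mul_add, add_mul, mul_one, one_mul, add_right_inj] at h
    let S : Matrix (Fin 5) (Fin 5) (ZMod 2) := Matrix.single 0 1 1
    have e : ∀ i j, (M * S) i j = (S * M) i j := fun i j => congrFun (congrFun h i) j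
    have e0 : ∀ i, i ≠ 0 → M i 0 = 0 := fun i hi => by
      have := e i 1
      simp only [S] at this
      rw [Matrix.mul_single_apply_same, Matrix.single_mul_apply_of_ne _ _ _ _ _ hi, mul_one] at this
      exact this
    have e1 : ∀ j, j ≠ 1 → M 1 j = 0 := fun j hj => by
      have := e 0 j
      simp only [S] at this
      rw [Matrix.single_mul_apply_same, Matrix.mul_single_apply_of_ne _ _ _ _ _ hj, one_mul] at this
      exact this.symm
    have e2 : M 0 0 = M 1 1 := by
      have := e 0 1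
      simp only [S] at this
      rwa [Matrix.mul_single_apply_same, Matrix.single_mul_apply_same, mul_one, one_mul] at this
    have h00 : M 0 0 = 1 := by
      have hd : M.det = 1 := (g : SpecialLinearGroup (Fin 5) (ZMod 2)).2
      have hne : M 0 0 ≠ 0 := fun h0 => by
        have := Matrix.det_eq_zero_of_column_eq_zero (A := M) 0 fun i => by
          by_cases hi : i = 0
          · rw [hi]; exact h0
          · exact e0 i hi
        rw [hd] at this
        exact one_ne_zero this
      revert hne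
      generalize M 0 0 = a
      revert a
      decide
    exact ⟨e0, e1, h00, e2 ▸ h00⟩
  let top : X → Fin 4 → ZMod 2 := fun g j =>
    ((g : SpecialLinearGroup (Fin 5) (ZMod 2)) : Matrix (Fin 5) (Fin 5) (ZMod 2)) 0 j.succ
  let col : X → Fin 3 → ZMod 2 := fun g i =>
    ((g : SpecialLinearGroup (Fin 5) (ZMod 2)) : Matrix (Fin 5) (Fin 5) (ZMod 2)) i.succ.succ 1
  let blk : X → Fin 3 → Fin 3 → ZMod 2 := fun g i j =>
    ((g : SpecialLinearGroup (Fin 5) (ZMod 2)) : Matrix (Fin 5) (Fin 5) (ZMod 2)) i.succ.succ j.succ.succ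
  have hgood : ∀ g, GoodBlock (blk g) := by
    intro g v hv
    obtain ⟨e0, e1, h00, h11⟩ := shape g
    by_contra hv0
    set M := ((g : SpecialLinearGroup (Fin 5) (ZMod 2)) : Matrix (Fin 5) (Fin 5) (ZMod 2)) with hM
    let w : Fin 5 → ZMod 2 := Fin.cons 0 (Fin.cons (∑ i, v i * col g i) v)
    have hw : w ≠ 0 := fun h => hv0 (funext fun i => by
      have := congrFun h i.succ.succ
      simpa [w] using this)
    have hz : w ᵥ* M = 0 := by
      funext j
      simp only [Matrix.vecMul, dotProduct, Pi.zero_apply, Fin.sum_univ_succ (n := 4),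
        Fin.sum_univ_succ (n := 3), w, Fin.cons_zero, Fin.cons_succ, zero_mul, zero_add]
      refine Fin.cases ?_ (Fin.cases ?_ ?_) j
      · rw [show ((0 : Fin 4).succ : Fin 5) = 1 from rfl, e0 1 (by decide), mul_zero, zero_add]
        exact Finset.sum_eq_zero fun i _ => by rw [e0 _ (Fin.succ_ne_zero _), mul_zero]
      · rw [show ((0 : Fin 4).succ : Fin 5) = 1 from rfl, h11, mul_one]
        exact CharTwo.add_self_eq_zero _
      · intro j
        rw [show ((0 : Fin 4).succ : Fin 5) = 1 from rfl,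
          e1 _ (by revert j; decide), mul_zero, zero_add]
        exact hv j
    have hd0 : M.det = 0 := Matrix.exists_vecMul_eq_zero_iff.1 ⟨w, hw, hz⟩
    rw [(g : SpecialLinearGroup (Fin 5) (ZMod 2)).2] at hd0
    exact one_ne_zero hd0
  let f : X → (Fin 4 → ZMod 2) × (Fin 3 → ZMod 2) × {B : Fin 3 → Fin 3 → ZMod 2 // GoodBlock B} :=
    fun g => (top g, col g, ⟨blk g, hgood g⟩)
  have hf : Function.Injective f := by
    intro a b h
    obtain ⟨a0, a1, a00, a11⟩ := shape a
    obtain ⟨b0, b1, b00, b11⟩ := shape b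
    simp only [f, Prod.mk.injEq, Subtype.mk.injEq] at h
    obtain ⟨ht, hc, hb⟩ := h
    apply Subtype.ext; apply Subtype.ext
    ext i j
    refine Fin.cases ?_ (Fin.cases ?_ (fun i => ?_)) i
    · exact Fin.cases (a00.trans b00.symm) (fun j => congrFun ht j) j
    · show _ = _
      rw [show ((0 : Fin 4).succ : Fin 5) = 1 from rfl]
      by_cases hj : j = 1
      · rw [hj, a11, b11]
      · rw [a1 j hj, b1 j hj]
    · refine Fin.cases ?_ (Fin.cases ?_ (fun j => ?_)) j
      · rw [a0 _ (Fin.succ_ne_zero _), b0 _ (Fin.succ_ne_zero _)]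
      · exact congrFun hc i
      · exact congrFun (congrFun hb i) j
  refine (Nat.card_le_card_of_injective f hf).trans ?_
  rw [Nat.card_eq_fintype_card, Fintype.card_prod, Fintype.card_prod, card_goodBlock]
  simp

end Cfsg.Agent.HeInvCent
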